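import Cfsg.Agent.Chev.Special.Data
import Cfsg.Agent.Chev.SimpleAll
import Cfsg.Prelude.Def_LieTwisted

/-!
The graph automorphisms in small characteristic.
-/

set_option autoImplicit false

namespace Cfsg.Agent.Chev

open Cfsg.Lie
open scoped MatrixGroups

universe u

theorem g2_simple' (E : Type u) [Field E] (h : ∃ e : E, e ≠ 0 ∧ e ≠ 1) :
    IsSimpleGroup ↥(chevG2.group E) := (g2_simple E h).1

theorem b2_simple' (E : Type u) [Field E] (h : ∃ e : E, e ≠ 0 ∧ e ≠ 1) :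
    IsSimpleGroup ↥(chevB2.group E) := (b2_simple E h).1

theorem f4_simple' (E : Type u) [Field E] (_ : ∃ e : E, e ≠ 0 ∧ e ≠ 1) :
    IsSimpleGroup ↥(chevF4.group E) := (f4_simple E).1

/-- The special isogeny is an automorphism over a perfect field. -/
theorem exists_special_aut {D : ChevalleyDatum} {S : SpecData D} (hS : SpecFacts S)
    {F : Type u} [Field F] [CharP F S.p] (hF : Facts.{u} D)
    (hsimp : ∀ (E : Type u) [Field E], (∃ e : E, e ≠ 0 ∧ e ≠ 1) → IsSimpleGroup ↥(D.group E))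
    (hperf : ∀ (r : Fin D.nroots) (x : F), ∃ y : F, y ^ S.lam r = x) :
    ∃ α : ↥(D.group F) ≃* ↥(D.group F), ∀ (g : ↥(D.group F)) (r : Fin D.nroots) (t : F),
      ((g : GL D.Idx F) : Matrix D.Idx D.Idx F) = D.x F r t →
        ((α g : GL D.Idx F) : Matrix D.Idx D.Idx F) = D.x F (S.ρ r) (t ^ S.lam r) := by
  refine ⟨MulEquiv.ofBijective (hS.iso hF hsimp (F := F))
    ⟨hS.iso_injective hF hsimp, hS.iso_surjective hF hsimp hperf⟩, fun g r t e => ?_⟩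
  obtain rfl : g = SpecFacts.xM hF r t := Subtype.ext (Units.ext e)
  show (((hS.iso hF hsimp (SpecFacts.xM hF r t) : ↥(D.group F)) : GL D.Idx F) :
    Matrix D.Idx D.Idx F) = _
  rw [hS.iso_x]
  rfl

theorem g2Spec_pairs : ∀ r : Fin chevG2.nroots, (g2Spec.lam r = 1 ∨ g2Spec.lam r = 3) ∧
    ((r : ℕ) = g2a → (g2Spec.ρ r : ℕ) = g2b ∧ g2Spec.lam r = 3) ∧
    ((r : ℕ) = g2b → (g2Spec.ρ r : ℕ) = g2a ∧ g2Spec.lam r = 1) ∧
    ((r : ℕ) = g2ma → (g2Spec.ρ r : ℕ) = g2mb ∧ g2Spec.lam r = 3) ∧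
    ((r : ℕ) = g2mb → (g2Spec.ρ r : ℕ) = g2ma ∧ g2Spec.lam r = 1) := by
  decide +kernel

theorem g2_graph_aut {K : Type u} [Field K] [CharP K 3] (hperf : ∀ x : K, ∃ y : K, y ^ 3 = x) :
    ∃ α : ↥(chevG2.group K) ≃* ↥(chevG2.group K), ∀ (g : ↥(chevG2.group K)) (t : K),
      (((g : GL chevG2.Idx K) : Matrix _ _ K) = chevG2.x K g2a t →
        ((α g : GL chevG2.Idx K) : Matrix _ _ K) = chevG2.x K g2b (t ^ 3)) ∧
      (((g : GL chevG2.Idx K) : Matrix _ _ K) = chevG2.x K g2b t →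
        ((α g : GL chevG2.Idx K) : Matrix _ _ K) = chevG2.x K g2a t) ∧
      (((g : GL chevG2.Idx K) : Matrix _ _ K) = chevG2.x K g2ma t →
        ((α g : GL chevG2.Idx K) : Matrix _ _ K) = chevG2.x K g2mb (t ^ 3)) ∧
      (((g : GL chevG2.Idx K) : Matrix _ _ K) = chevG2.x K g2mb t →
        ((α g : GL chevG2.Idx K) : Matrix _ _ K) = chevG2.x K g2ma t) := by
  haveI : CharP K g2Spec.p := ‹CharP K 3›
  obtain ⟨α, hα⟩ := exists_special_aut g2SpecFacts facts_chevG2 g2_simple' (F := K)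
    (fun r x => by
      rcases (g2Spec_pairs r).1 with h | h <;> rw [h]
      · exact ⟨x, pow_one x⟩
      · exact hperf x)
  refine ⟨α, fun g t => ⟨fun e => ?_, fun e => ?_, fun e => ?_, fun e => ?_⟩⟩
  · rw [hα g ⟨g2a, by decide⟩ t e, ((g2Spec_pairs _).2.1 rfl).1, ((g2Spec_pairs _).2.1 rfl).2]
  · rw [hα g ⟨g2b, by decide⟩ t e, ((g2Spec_pairs _).2.2.1 rfl).1,
      ((g2Spec_pairs _).2.2.1 rfl).2, pow_one]
  · rw [hα g ⟨g2ma, by decide⟩ t e, ((g2Spec_pairs _).2.2.2.1 rfl).1,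
      ((g2Spec_pairs _).2.2.2.1 rfl).2]
  · rw [hα g ⟨g2mb, by decide⟩ t e, ((g2Spec_pairs _).2.2.2.2 rfl).1,
      ((g2Spec_pairs _).2.2.2.2 rfl).2, pow_one]

/-- The check for the graph automorphism in characteristic 2 on the fundamental roots. -/
def chkGraph2 {D : ChevalleyDatum} (S : SpecData D) (l : List (ℕ × ℕ)) : Prop :=
  (∀ r : Fin D.nroots, S.lam r = 1 ∨ S.lam r = 2) ∧
  ∀ i : Fin D.rank, ∀ r : Fin D.nroots,
    ((r : ℕ) = D.simple i → (S.ρ r : ℕ) = D.simple (l.getD i (0, 1)).1 ∧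
      S.lam r = (l.getD i (0, 1)).2) ∧
    ((r : ℕ) = D.neg (D.simple i) → (S.ρ r : ℕ) = D.neg (D.simple (l.getD i (0, 1)).1) ∧
      S.lam r = (l.getD i (0, 1)).2)

theorem graph_aut_two {D : ChevalleyDatum} {S : SpecData D} (hS : SpecFacts S)
    {K : Type u} [Field K] [CharP K S.p] (hperf : ∀ x : K, ∃ y : K, y ^ 2 = x)
    (hF : Facts.{u} D)
    (hsimp : ∀ (E : Type u) [Field E], (∃ e : E, e ≠ 0 ∧ e ≠ 1) → IsSimpleGroup ↥(D.group E))
    (l : List (ℕ × ℕ)) (hl : chkGraph2 S l) :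
    ∃ α : ↥(D.group K) ≃* ↥(D.group K), ∀ (g : ↥(D.group K)) (i : ℕ) (t : K), i < D.rank →
      (((g : GL D.Idx K) : Matrix D.Idx D.Idx K) = D.x K (D.simple i) t →
        ((α g : GL D.Idx K) : Matrix D.Idx D.Idx K) =
          D.x K (D.simple (l.getD i (0, 1)).1) (t ^ (l.getD i (0, 1)).2)) ∧
      (((g : GL D.Idx K) : Matrix D.Idx D.Idx K) = D.x K (D.neg (D.simple i)) t →
        ((α g : GL D.Idx K) : Matrix D.Idx D.Idx K) =
          D.x K (D.neg (D.simple (l.getD i (0, 1)).1)) (t ^ (l.getD i (0, 1)).2)) := by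
  obtain ⟨α, hα⟩ := exists_special_aut hS hF hsimp (F := K) (fun r x => by
    rcases hl.1 r with h | h <;> rw [h]
    · exact ⟨x, pow_one x⟩
    · exact hperf x)
  refine ⟨α, fun g i t hi => ⟨fun e => ?_, fun e => ?_⟩⟩
  · obtain ⟨h1, h2⟩ := (hl.2 ⟨i, hi⟩ ⟨_, hF.simple_lt i hi⟩).1 rfl
    rw [hα g ⟨_, hF.simple_lt i hi⟩ t e, h1, h2]
  · obtain ⟨h1, h2⟩ := (hl.2 ⟨i, hi⟩ ⟨_, neg_lt hF (hF.simple_lt i hi)⟩).2 rfl
    rw [hα g ⟨_, neg_lt hF (hF.simple_lt i hi)⟩ t e, h1, h2]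

theorem b2_chkGraph2 : chkGraph2 b2Spec [(1, 2), (0, 1)] := by
  unfold chkGraph2; decide +kernel

theorem f4_chkGraph2 : chkGraph2 f4Spec [(3, 2), (2, 2), (1, 1), (0, 1)] := by
  unfold chkGraph2; decide +kernel

end Cfsg.Agent.Chev
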