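import Cfsg.Agent.Chev.Functorial
import Mathlib.FieldTheory.IsAlgClosed.AlgebraicClosure

/-!
The special isogeny of a Chevalley group in characteristic `p`: the adjoint module has an ideal
spanned by short root vectors and short fundamental coroots, whose quotient is the twisted form
of the ideal itself.
-/

set_option autoImplicit false

namespace Cfsg.Agent.Chev

open Cfsg.Lie
open scoped MatrixGroups

universe u

/-- The terms `(degree, coefficient)` of an entry of `x_r(t)`. -/
def xCoefs (D : ChevalleyDatum) (r : ℕ) : D.Idx → D.Idx → List (ℕ × ℤ)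
  | .inl i', .inl i => if i' = i then [(0, 1)] else []
  | .inr u, .inl i =>
    if (u : ℕ) = r then [(1, -((D.cartanSR.getD i.val #[]).getD r 0))] else []
  | .inl i, .inr s =>
    if (s : ℕ) = r then []
    else if s.val = D.negIdx.getD r 0 then [(1, (D.coroot.getD r #[]).getD i.val 0)] else []
  | .inr u, .inr s =>
    if (s : ℕ) = r then (if (u : ℕ) = r then [(0, 1)] else [])
    else if s.val = D.negIdx.getD r 0 then
      (if u = s then [(0, 1)] else if (u : ℕ) = r then [(2, -1)] else [])
    else (if u = s then [(0, 1)] else []) ++ D.chainCoeff r s.val u.val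

/-- The coefficient of degree `k`. -/
def cOf (l : List (ℕ × ℤ)) (k : ℕ) : ℤ := (l.map fun e => if e.1 = k then e.2 else 0).sum

theorem xMat_eq_xCoefs {D : ChevalleyDatum} {F : Type u} [Field F] (r : Fin D.nroots) (t : F)
    (a b : D.Idx) :
    D.x F r t a b = ((xCoefs D r a b).map fun km => ((km.2 : ℤ) : F) * t ^ km.1).sum := by
  rw [ChevalleyDatum.x, dif_pos r.2]
  rcases b with i | s <;> rcases a with i' | w <;>
    simp only [ChevalleyDatum.xMat, Matrix.of_apply, xCoefs, Fin.eta, Fin.ext_iff] <;>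
    (try split_ifs) <;> simp

theorem sum_eq_cOf {F : Type u} [Field F] (t : F) {N : ℕ} :
    ∀ l : List (ℕ × ℤ), (∀ e ∈ l, e.1 < N) →
      (l.map fun km => ((km.2 : ℤ) : F) * t ^ km.1).sum =
        ∑ k ∈ Finset.range N, (cOf l k : F) * t ^ k
  | [], _ => by simp [cOf]
  | e :: l, h => by
    rw [List.map_cons, List.sum_cons, sum_eq_cOf t l fun e' he' => h e' (List.mem_cons_of_mem _ he')]
    simp only [cOf, List.map_cons, List.sum_cons, Int.cast_add, add_mul, Finset.sum_add_distrib]
    congr 1
    rw [Finset.sum_eq_single e.1]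
    · simp
    · intro k _ hk; simp [Ne.symm hk]
    · intro hk; exact absurd (Finset.mem_range.2 (h e (List.mem_cons_self ..))) hk

/-- The data of a special isogeny. -/
structure SpecData (D : ChevalleyDatum) where
  p : ℕ
  inI : D.Idx → Bool
  tw : D.Idx → D.Idx
  ρ : Fin D.nroots → Fin D.nroots
  lam : Fin D.nroots → ℕ

variable {D : ChevalleyDatum}

/-- A list of terms which vanishes modulo `p`. -/
def chkZero (p : ℕ) (L : List (ℕ × ℤ)) : Bool :=
  L.all fun e => decide (e.1 < 9) && (cOf L e.1 % (p : ℤ) == 0)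

/-- All coordinates. -/
def allIdx (D : ChevalleyDatum) : List D.Idx :=
  (List.finRange D.rank).map Sum.inl ++ (List.finRange D.nroots).map Sum.inr

theorem mem_allIdx (a : D.Idx) : a ∈ allIdx D := by
  rcases a with i | r <;> simp [allIdx]

/-- The check for a single root: the ideal is invariant, and the quotient is the twisted ideal. -/
def SpecData.chk (S : SpecData D) (r : Fin D.nroots) : Bool :=
  (allIdx D).all fun a => S.inI a || (allIdx D).all fun b =>
    chkZero S.p (xCoefs D r a b ++ if S.inI b then [] else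
      (xCoefs D (S.ρ r) (S.tw a) (S.tw b)).map fun e => (e.1 * S.lam r, -e.2))

/-- The facts of a special isogeny. -/
structure SpecFacts (S : SpecData D) : Prop where
  lam_pos : ∀ r, 0 < S.lam r
  tw_mem : ∀ a, S.inI a = false → S.inI (S.tw a) = true
  tw_inj : ∀ a b, S.inI a = false → S.inI b = false → S.tw a = S.tw b → a = b
  tw_surj : ∀ c, S.inI c = true → ∃ a, S.inI a = false ∧ S.tw a = c
  rho_surj : ∀ r', ∃ r, S.ρ r = r'
  chk : ∀ r, S.chk r = true
  nontriv : ∃ r : Fin D.nroots, ∃ a b, S.inI a = true ∧ S.inI b = true ∧ a ≠ b ∧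
    ((xCoefs D r a b).map Prod.snd).sum % (S.p : ℤ) ≠ 0

namespace SpecFacts

variable {S : SpecData D} (hS : SpecFacts S) {F : Type u} [Field F] [CharP F S.p]

/-- The coordinates in the ideal. -/
abbrev II (S : SpecData D) : Type := {a : D.Idx // S.inI a = true}

theorem cast_eq_zero {z : ℤ} (h : z % (S.p : ℤ) = 0) : (z : F) = 0 :=
  (CharP.intCast_eq_zero_iff F S.p z).2 (Int.dvd_of_emod_eq_zero h)

omit [CharP F S.p] in
theorem sum_map_append (L L' : List (ℕ × ℤ)) (t : F) :
    ((L ++ L').map fun km => ((km.2 : ℤ) : F) * t ^ km.1).sum =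
      (L.map fun km => ((km.2 : ℤ) : F) * t ^ km.1).sum +
      (L'.map fun km => ((km.2 : ℤ) : F) * t ^ km.1).sum := by
  rw [List.map_append, List.sum_append]

theorem sum_eq_zero_of_chkZero {L : List (ℕ × ℤ)} (h : chkZero S.p L = true) (t : F) :
    (L.map fun km => ((km.2 : ℤ) : F) * t ^ km.1).sum = 0 := by
  simp only [chkZero, List.all_eq_true, Bool.and_eq_true, decide_eq_true_eq, beq_iff_eq] at h
  rw [sum_eq_cOf t _ fun e he => (h e he).1]
  refine Finset.sum_eq_zero fun k _ => ?_
  by_cases hk : ∃ e ∈ L, e.1 = k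
  · obtain ⟨e, he, rfl⟩ := hk
    rw [cast_eq_zero (h e he).2, zero_mul]
  · have : cOf L k = 0 := by
      refine List.sum_eq_zero fun x hx => ?_
      obtain ⟨e, he, rfl⟩ := List.mem_map.1 hx
      exact if_neg fun q => hk ⟨e, he, q⟩
    rw [this, Int.cast_zero, zero_mul]

include hS in
theorem chk_entry (r : Fin D.nroots) {a : D.Idx} (ha : S.inI a = false) (b : D.Idx) :
    chkZero S.p (xCoefs D r a b ++ if S.inI b then [] else
      (xCoefs D (S.ρ r) (S.tw a) (S.tw b)).map fun e => (e.1 * S.lam r, -e.2)) = true := by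
  have h := hS.chk r
  simp only [SpecData.chk, List.all_eq_true, Bool.or_eq_true] at h
  exact (h a (mem_allIdx a)).resolve_left (by simp [ha]) b (mem_allIdx b)

include hS in
theorem x_lower_left (r : Fin D.nroots) (t : F) {a b : D.Idx} (ha : S.inI a = false)
    (hb : S.inI b = true) : D.x F r t a b = 0 := by
  have h := sum_eq_zero_of_chkZero (F := F) (hS.chk_entry r ha b) t
  rwa [hb, if_pos rfl, List.append_nil, ← xMat_eq_xCoefs] at h

include hS in
theorem x_tw (r : Fin D.nroots) (t : F) {a b : D.Idx} (ha : S.inI a = false)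
    (hb : S.inI b = false) :
    D.x F r t a b = D.x F (S.ρ r) (t ^ S.lam r) (S.tw a) (S.tw b) := by
  have h := sum_eq_zero_of_chkZero (F := F) (hS.chk_entry r ha b) t
  rw [hb, if_neg Bool.false_ne_true, sum_map_append, ← xMat_eq_xCoefs] at h
  rw [xMat_eq_xCoefs (S.ρ r), eq_neg_of_add_eq_zero_left h, List.map_map]
  generalize xCoefs D (S.ρ r) (S.tw a) (S.tw b) = l
  induction l with
  | nil => simp
  | cons e l ih =>
    simp only [List.map_cons, List.sum_cons, Function.comp_apply, neg_add, ih]
    push_cast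
    rw [← pow_mul, mul_comm (S.lam r)]
    ring

/-- The matrices preserving the ideal. -/
def stabI (S : SpecData D) : Subgroup (GL D.Idx F) where
  carrier := {g | ∀ a b : D.Idx, S.inI a = false → S.inI b = true →
    (g : Matrix D.Idx D.Idx F) a b = 0 ∧ ((g⁻¹ : GL D.Idx F) : Matrix D.Idx D.Idx F) a b = 0}
  one_mem' := fun a b ha hb => by
    have : a ≠ b := fun e => by rw [e, hb] at ha; exact Bool.noConfusion ha
    simp [Matrix.one_apply_ne this]
  mul_mem' := by
    intro g h hg hh a b ha hb
    refine ⟨?_, ?_⟩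
    · rw [Units.val_mul, Matrix.mul_apply]
      refine Finset.sum_eq_zero fun c _ => ?_
      cases hc : S.inI c
      · rw [(hh c b hc hb).1, mul_zero]
      · rw [(hg a c ha hc).1, zero_mul]
    · rw [mul_inv_rev, Units.val_mul, Matrix.mul_apply]
      refine Finset.sum_eq_zero fun c _ => ?_
      cases hc : S.inI c
      · rw [(hg c b hc hb).2, mul_zero]
      · rw [(hh a c ha hc).2, zero_mul]
  inv_mem' := fun {g} hg a b ha hb => ⟨(hg a b ha hb).2, by rw [inv_inv]; exact (hg a b ha hb).1⟩

include hS in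
theorem xG_mem_stabI (hF : Facts.{u} D) (r : Fin D.nroots) (t : F) :
    xG hF r t ∈ stabI S (F := F) := fun a b ha hb =>
  ⟨hS.x_lower_left r t ha hb, by rw [xG_inv]; exact hS.x_lower_left r (-t) ha hb⟩

include hS in
theorem group_le_stabI (hF : Facts.{u} D) : D.group F ≤ stabI S := by
  refine (Subgroup.closure_le _).2 ?_
  rintro y ⟨r, t, hy⟩
  obtain rfl : y = xG hF r t :=
    Units.ext (hy.trans (by rw [xG_val, ChevalleyDatum.x, dif_pos r.2]))
  exact hS.xG_mem_stabI hF r t

/-- The action on the ideal. -/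
noncomputable def repA (hF : Facts.{u} D) : ↥(D.group F) →* Matrix (II S) (II S) F where
  toFun g := Matrix.of fun a b => ((g : GL D.Idx F) : Matrix D.Idx D.Idx F) a.1 b.1
  map_one' := by
    ext a b
    simp only [Subgroup.coe_one, Units.val_one, Matrix.of_apply, Matrix.one_apply, Subtype.ext_iff]
  map_mul' g h := by
    ext a b
    simp only [Subgroup.coe_mul, Units.val_mul, Matrix.of_apply, Matrix.mul_apply]
    rw [← Finset.sum_subtype (Finset.univ.filter fun c => S.inI c = true) (fun c => by simp)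
      (fun c => ((g : GL D.Idx F) : Matrix D.Idx D.Idx F) a.1 c *
        ((h : GL D.Idx F) : Matrix D.Idx D.Idx F) c b.1)]
    refine (Finset.sum_filter_of_ne fun c _ hne => ?_).symm
    by_contra hc
    exact hne (by rw [(hS.group_le_stabI hF h.2 c b.1 (by simpa using hc) b.2).1, mul_zero])

/-- The coordinate of the quotient attached to a coordinate of the ideal. -/
noncomputable def pre (c : II S) : D.Idx := (hS.tw_surj c.1 c.2).choose

theorem pre_mem (c : II S) : S.inI (hS.pre c) = false := (hS.tw_surj c.1 c.2).choose_spec.1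

theorem tw_pre (c : II S) : S.tw (hS.pre c) = c.1 := (hS.tw_surj c.1 c.2).choose_spec.2

/-- The action on the quotient, moved to the ideal. -/
noncomputable def repQ (hF : Facts.{u} D) : ↥(D.group F) →* Matrix (II S) (II S) F where
  toFun g := Matrix.of fun a b => ((g : GL D.Idx F) : Matrix D.Idx D.Idx F) (hS.pre a) (hS.pre b)
  map_one' := by
    ext a b
    simp only [Subgroup.coe_one, Units.val_one, Matrix.of_apply, Matrix.one_apply]
    by_cases h : a = b
    · rw [if_pos h, if_pos (by rw [h])]
    · rw [if_neg h, if_neg]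
      exact fun e => h (Subtype.ext (by rw [← hS.tw_pre a, ← hS.tw_pre b, e]))
  map_mul' g h := by
    ext a b
    simp only [Subgroup.coe_mul, Units.val_mul, Matrix.of_apply, Matrix.mul_apply]
    rw [← Finset.sum_filter_of_ne (s := Finset.univ) (p := fun c => S.inI c = false)
      (fun c _ hne => ?_)]
    · refine (Finset.sum_bij (fun c _ => hS.pre c) (fun c _ => ?_) (fun c _ c' _ e => ?_)
        (fun c hc => ?_) fun c _ => rfl).symm
      · simp [hS.pre_mem c]
      · exact Subtype.ext (by rw [← hS.tw_pre c, ← hS.tw_pre c', e])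
      · have hc' : S.inI c = false := by simpa using hc
        exact ⟨⟨S.tw c, hS.tw_mem c hc'⟩, Finset.mem_univ _,
          hS.tw_inj _ _ (hS.pre_mem _) hc' (hS.tw_pre _)⟩
    · by_contra hc
      exact hne (by
        rw [(hS.group_le_stabI hF g.2 (hS.pre a) c (hS.pre_mem a) (by simpa using hc)).1,
          zero_mul])

variable (hF : Facts.{u} D)

/-- A root element in the group. -/
def xM (r : ℕ) (t : F) : ↥(D.group F) := ⟨xG hF r t, xG_mem_group hF r t⟩

theorem repQ_x (r : Fin D.nroots) (t : F) :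
    hS.repQ hF (xM hF r t) = hS.repA hF (xM hF (S.ρ r) (t ^ S.lam r)) := by
  ext a b
  simp only [repQ, repA, MonoidHom.coe_mk, OneHom.coe_mk, Matrix.of_apply, xM, xG_val]
  rw [hS.x_tw r t (hS.pre_mem a) (hS.pre_mem b), hS.tw_pre, hS.tw_pre]

theorem repA_nontriv : ∃ r : Fin D.nroots, hS.repA hF (xM hF r (1 : F)) ≠ 1 := by
  obtain ⟨r, a, b, ha, hb, hab, h⟩ := hS.nontriv
  refine ⟨r, fun e => h ?_⟩
  have e' := congrArg (fun M : Matrix (II S) (II S) F => M ⟨a, ha⟩ ⟨b, hb⟩) e
  simp only [repA, MonoidHom.coe_mk, OneHom.coe_mk, Matrix.of_apply, xM, xG_val] at e'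
  rw [Matrix.one_apply_ne (fun q => hab (congrArg Subtype.val q)), xMat_eq_xCoefs] at e'
  simp only [one_pow, mul_one] at e'
  refine Int.emod_eq_zero_of_dvd ((CharP.intCast_eq_zero_iff F S.p _).1 ?_)
  rw [← e', Int.cast_list_sum, List.map_map]
  rfl

/-- A homomorphism to the matrices of the ideal which is natural in the field. -/
theorem injective_of_simple (hsimp : ∀ (E : Type u) [Field E], (∃ e : E, e ≠ 0 ∧ e ≠ 1) →
      IsSimpleGroup ↥(D.group E))
    (f : ∀ (E : Type u) [Field E] [CharP E S.p], ↥(D.group E) →* Matrix (II S) (II S) E)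
    (hnat : ∀ (E : Type u) [Field E] [CharP E S.p] (j : F →+* E) (g : ↥(D.group F)),
      f E (groupMap hF hF j g) = (f F g).map j)
    (hne : ∀ (E : Type u) [Field E] [CharP E S.p], ∃ g : ↥(D.group E), f E g ≠ 1) :
    Function.Injective (f F) := by
  let E := AlgebraicClosure F
  let j : F →+* E := algebraMap F E
  haveI : CharP E S.p := charP_of_injective_ringHom j.injective S.p
  have hE : ∃ e : E, e ≠ 0 ∧ e ≠ 1 := by
    classical
    obtain ⟨e, he⟩ := Infinite.exists_notMem_finset ({0, 1} : Finset E)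
    exact ⟨e, fun h => he (by simp [h]), fun h => he (by simp [h])⟩
  haveI := hsimp E hE
  have hker : (f E).ker = ⊥ := by
    rcases (f E).normal_ker.eq_bot_or_eq_top with h | h
    · exact h
    · obtain ⟨g, hg⟩ := hne E
      exact absurd (show g ∈ (f E).ker from h ▸ Subgroup.mem_top g) hg
  refine (injective_iff_map_eq_one (f F)).2 fun g hg => groupMap_injective hF hF j ?_
  rw [map_one]
  refine (Subgroup.eq_bot_iff_forall _).1 hker _ ?_
  rw [MonoidHom.mem_ker, hnat, hg, Matrix.map_one _ j.map_zero j.map_one]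

section

variable (hsimp : ∀ (E : Type u) [Field E], (∃ e : E, e ≠ 0 ∧ e ≠ 1) →
  IsSimpleGroup ↥(D.group E))
include hsimp

theorem repA_injective : Function.Injective (hS.repA hF (F := F)) :=
  injective_of_simple (S := S) hF hsimp (fun E _ _ => hS.repA hF (F := E))
    (fun E _ _ j g => by ext a b; rfl)
    fun E _ _ => ⟨_, (hS.repA_nontriv hF (F := E)).choose_spec⟩

theorem repQ_injective : Function.Injective (hS.repQ hF (F := F)) :=
  injective_of_simple (S := S) hF hsimp (fun E _ _ => hS.repQ hF (F := E))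
    (fun E _ _ j g => by ext a b; rfl)
    fun E _ _ => by
      obtain ⟨r', hr'⟩ := hS.repA_nontriv hF (F := E)
      obtain ⟨r, rfl⟩ := hS.rho_surj r'
      exact ⟨xM hF r 1, by rw [hS.repQ_x, one_pow]; exact hr'⟩

omit hsimp in
theorem repQ_mem_range (g : ↥(D.group F)) : ∃ h, hS.repA hF h = hS.repQ hF g := by
  obtain ⟨g, hg⟩ := g
  induction hg using Subgroup.closure_induction with
  | mem x hx =>
    obtain ⟨r, t, hy⟩ := hx
    obtain rfl : x = xG hF r t :=
      Units.ext (hy.trans (by rw [xG_val, ChevalleyDatum.x, dif_pos r.2]))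
    exact ⟨_, (hS.repQ_x hF r t).symm⟩
  | one => exact ⟨1, (map_one _).trans (map_one (hS.repQ hF)).symm⟩
  | mul x y hx hy ihx ihy =>
    obtain ⟨h, e⟩ := ihx
    obtain ⟨h', e'⟩ := ihy
    refine ⟨h * h', ?_⟩
    rw [map_mul, e, e', ← map_mul]
    rfl
  | inv x hx ih =>
    obtain ⟨h, e⟩ := ih
    refine ⟨h⁻¹, ?_⟩
    set z : ↥(D.group F) := ⟨x, hx⟩ with hz
    calc hS.repA hF h⁻¹ = hS.repA hF h⁻¹ * (hS.repQ hF z * hS.repQ hF z⁻¹) := by
          rw [← map_mul, mul_inv_cancel, map_one, mul_one]
      _ = hS.repQ hF z⁻¹ := by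
          rw [← e, ← mul_assoc, ← map_mul, inv_mul_cancel, map_one, one_mul]

/-- The special isogeny. -/
noncomputable def iso : ↥(D.group F) →* ↥(D.group F) where
  toFun g := (hS.repQ_mem_range hF g).choose
  map_one' := hS.repA_injective hF hsimp
    (by rw [(hS.repQ_mem_range hF 1).choose_spec, map_one, map_one])
  map_mul' g h := hS.repA_injective hF hsimp (by
    rw [map_mul (hS.repA hF), (hS.repQ_mem_range hF (g * h)).choose_spec, map_mul,
      (hS.repQ_mem_range hF g).choose_spec, (hS.repQ_mem_range hF h).choose_spec])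

theorem repA_iso (g : ↥(D.group F)) : hS.repA hF (hS.iso hF hsimp g) = hS.repQ hF g :=
  (hS.repQ_mem_range hF g).choose_spec

theorem iso_x (r : Fin D.nroots) (t : F) :
    hS.iso hF hsimp (xM hF r t) = xM hF (S.ρ r) (t ^ S.lam r) :=
  hS.repA_injective hF hsimp (by rw [hS.repA_iso, hS.repQ_x])

theorem iso_injective : Function.Injective (hS.iso hF hsimp (F := F)) := fun g h e =>
  hS.repQ_injective hF hsimp (by rw [← hS.repA_iso hF hsimp, e, hS.repA_iso])

theorem iso_surjective (hperf : ∀ (r : Fin D.nroots) (x : F), ∃ y : F, y ^ S.lam r = x) :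
    Function.Surjective (hS.iso hF hsimp (F := F)) := by
  intro g
  show g ∈ (hS.iso hF hsimp (F := F)).range
  obtain ⟨g, hg⟩ := g
  induction hg using Subgroup.closure_induction with
  | mem x hx =>
    obtain ⟨r', t, hy⟩ := hx
    obtain rfl : x = xG hF r' t :=
      Units.ext (hy.trans (by rw [xG_val, ChevalleyDatum.x, dif_pos r'.2]))
    obtain ⟨r, rfl⟩ := hS.rho_surj r'
    obtain ⟨y, rfl⟩ := hperf r t
    exact ⟨_, hS.iso_x hF hsimp r y⟩
  | one => exact one_mem _
  | mul x y hx hy ihx ihy => exact mul_mem ihx ihy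
  | inv x hx ih => exact inv_mem ih

end

end SpecFacts

end Cfsg.Agent.Chev
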