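import Cfsg.Agent.Chev.Special.Basic
import Cfsg.Prelude.Def_ChevG2
import Cfsg.Prelude.Def_ChevB2
import Cfsg.Prelude.Def_ChevF4

/-!
The special isogenies of types `G₂` (characteristic 3), `B₂` and `F₄` (characteristic 2).
-/

set_option autoImplicit false
set_option maxRecDepth 100000

namespace Cfsg.Agent.Chev

open Cfsg.Lie

/-- The special isogeny of `chevG2`. -/
def g2Spec : SpecData chevG2 where
  p := 3
  inI := fun a => match a with
    | .inl i => ([true, false] : List Bool).getD i false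
    | .inr r => ([false, false, true, true, true, false, false, true, true, true, false, false] : List Bool).getD r false
  tw := fun a => match a with
    | .inl i => .inl (([0, 0] : List (Fin 2)).getD i 0)
    | .inr r => .inr (([2, 3, 2, 3, 4, 4, 7, 7, 8, 9, 8, 9] : List (Fin 12)).getD r 0)
  ρ := fun r => ([2, 3, 0, 1, 5, 4, 7, 6, 10, 11, 8, 9] : List (Fin 12)).getD r 0
  lam := fun r => ([1, 1, 3, 3, 3, 1, 1, 3, 3, 3, 1, 1] : List ℕ).getD r 1

theorem g2Spec_tw_mem :
    ∀ a, g2Spec.inI a = false → g2Spec.inI (g2Spec.tw a) = true := by decide +kernel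

theorem g2Spec_tw_inj :
    ∀ a b, g2Spec.inI a = false → g2Spec.inI b = false → g2Spec.tw a = g2Spec.tw b → a = b := by decide +kernel

theorem g2Spec_tw_surj :
    ∀ c, g2Spec.inI c = true → ∃ a, g2Spec.inI a = false ∧ g2Spec.tw a = c := by decide +kernel

theorem g2Spec_rho_surj :
    ∀ r', ∃ r, g2Spec.ρ r = r' := by decide +kernel

theorem g2Spec_lam_pos :
    ∀ r, 0 < g2Spec.lam r := by decide +kernel

theorem g2Spec_chk :
    ∀ r, g2Spec.chk r = true := by decide +kernel

theorem g2Spec_nontriv :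
    ∃ r : Fin chevG2.nroots, ∃ a b, g2Spec.inI a = true ∧ g2Spec.inI b = true ∧ a ≠ b ∧
    ((xCoefs chevG2 r a b).map Prod.snd).sum % (g2Spec.p : ℤ) ≠ 0 := by decide +kernel

theorem g2SpecFacts : SpecFacts g2Spec :=
  ⟨g2Spec_lam_pos, g2Spec_tw_mem, g2Spec_tw_inj, g2Spec_tw_surj, g2Spec_rho_surj,
    g2Spec_chk, g2Spec_nontriv⟩

/-- The special isogeny of `chevB2`. -/
def b2Spec : SpecData chevB2 where
  p := 2
  inI := fun a => match a with
    | .inl i => ([true, false] : List Bool).getD i false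
    | .inr r => ([false, true, true, false, false, true, true, false] : List Bool).getD r false
  tw := fun a => match a with
    | .inl i => .inl (([0, 0] : List (Fin 2)).getD i 0)
    | .inr r => .inr (([1, 1, 2, 2, 5, 5, 6, 6] : List (Fin 8)).getD r 0)
  ρ := fun r => ([1, 0, 3, 2, 5, 4, 7, 6] : List (Fin 8)).getD r 0
  lam := fun r => ([1, 2, 2, 1, 1, 2, 2, 1] : List ℕ).getD r 1

theorem b2Spec_tw_mem :
    ∀ a, b2Spec.inI a = false → b2Spec.inI (b2Spec.tw a) = true := by decide +kernel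

theorem b2Spec_tw_inj :
    ∀ a b, b2Spec.inI a = false → b2Spec.inI b = false → b2Spec.tw a = b2Spec.tw b → a = b := by decide +kernel

theorem b2Spec_tw_surj :
    ∀ c, b2Spec.inI c = true → ∃ a, b2Spec.inI a = false ∧ b2Spec.tw a = c := by decide +kernel

theorem b2Spec_rho_surj :
    ∀ r', ∃ r, b2Spec.ρ r = r' := by decide +kernel

theorem b2Spec_lam_pos :
    ∀ r, 0 < b2Spec.lam r := by decide +kernel

theorem b2Spec_chk :
    ∀ r, b2Spec.chk r = true := by decide +kernel

theorem b2Spec_nontriv :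
    ∃ r : Fin chevB2.nroots, ∃ a b, b2Spec.inI a = true ∧ b2Spec.inI b = true ∧ a ≠ b ∧
    ((xCoefs chevB2 r a b).map Prod.snd).sum % (b2Spec.p : ℤ) ≠ 0 := by decide +kernel

theorem b2SpecFacts : SpecFacts b2Spec :=
  ⟨b2Spec_lam_pos, b2Spec_tw_mem, b2Spec_tw_inj, b2Spec_tw_surj, b2Spec_rho_surj,
    b2Spec_chk, b2Spec_nontriv⟩

/-- The special isogeny of `chevF4`. -/
def f4Spec : SpecData chevF4 where
  p := 2
  inI := fun a => match a with
    | .inl i => ([true, true, false, false] : List Bool).getD i false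
    | .inr r => ([false, false, false, true, false, false, false, true, true, true, true, true, true, true, true, false, false, false, true, true, true, false, false, false, false, false, false, true, true, true, false, false, false, true, true, true, true, true, true, true, true, false, false, false, true, false, false, false] : List Bool).getD r false
  tw := fun a => match a with
    | .inl i => .inl (([0, 1, 1, 0] : List (Fin 4)).getD i 0)
    | .inr r => .inr (([3, 7, 8, 3, 9, 11, 18, 7, 8, 9, 10, 11, 12, 13, 14, 10, 12, 19, 18, 19, 20, 13, 20, 14, 33, 27, 34, 27, 28, 29, 28, 35, 37, 33, 34, 35, 36, 37, 38, 39, 40, 29, 36, 38, 44, 39, 40, 44] : List (Fin 48)).getD r 0)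
  ρ := fun r => ([3, 7, 8, 0, 9, 11, 18, 1, 2, 4, 15, 5, 16, 21, 23, 10, 12, 19, 6, 17, 22, 13, 20, 14, 33, 27, 34, 25, 30, 41, 28, 35, 37, 24, 26, 31, 42, 32, 43, 45, 46, 29, 36, 38, 47, 39, 40, 44] : List (Fin 48)).getD r 0
  lam := fun r => ([1, 1, 1, 2, 1, 1, 1, 2, 2, 2, 2, 2, 2, 2, 2, 1, 1, 1, 2, 2, 2, 1, 1, 1, 1, 1, 1, 2, 2, 2, 1, 1, 1, 2, 2, 2, 2, 2, 2, 2, 2, 1, 1, 1, 2, 1, 1, 1] : List ℕ).getD r 1

theorem f4Spec_tw_mem :
    ∀ a, f4Spec.inI a = false → f4Spec.inI (f4Spec.tw a) = true := by decide +kernel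

theorem f4Spec_tw_inj :
    ∀ a b, f4Spec.inI a = false → f4Spec.inI b = false → f4Spec.tw a = f4Spec.tw b → a = b := by decide +kernel

theorem f4Spec_tw_surj :
    ∀ c, f4Spec.inI c = true → ∃ a, f4Spec.inI a = false ∧ f4Spec.tw a = c := by decide +kernel

theorem f4Spec_rho_surj :
    ∀ r', ∃ r, f4Spec.ρ r = r' := by decide +kernel

theorem f4Spec_lam_pos :
    ∀ r, 0 < f4Spec.lam r := by decide +kernel

theorem f4Spec_chk :
    ∀ r, f4Spec.chk r = true := by decide +kernel

theorem f4Spec_nontriv :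
    ∃ r : Fin chevF4.nroots, ∃ a b, f4Spec.inI a = true ∧ f4Spec.inI b = true ∧ a ≠ b ∧
    ((xCoefs chevF4 r a b).map Prod.snd).sum % (f4Spec.p : ℤ) ≠ 0 := by decide +kernel

theorem f4SpecFacts : SpecFacts f4Spec :=
  ⟨f4Spec_lam_pos, f4Spec_tw_mem, f4Spec_tw_inj, f4Spec_tw_surj, f4Spec_rho_surj,
    f4Spec_chk, f4Spec_nontriv⟩

end Cfsg.Agent.Chev
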